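import Groth.Prelude.Def_LambdaRing
import Mathlib.RingTheory.Polynomial.Nilpotent
import Mathlib.RingTheory.TensorProduct.Maps

/-!
# Nilpotence from the lambda series of a complement

If `e + f` is a positive integer and the lambda series of `e` and `f` are polynomials of the
expected degrees then `e - rank e` is nilpotent.
-/

set_option autoImplicit false

universe v

open scoped Polynomial
open LambdaRing Finset

namespace Groth.Agent.Lib.KAugNil98.Alg

variable {K : Type v} [CommRing K]

/-- The substitution `t = u/(1-u)` on polynomials of degree at most `N`. -/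
noncomputable def Φ (N : ℕ) : K[X] →ₗ[K] K[X] :=
  Polynomial.lsum fun k => LinearMap.toSpanSingleton K K[X]
    (Polynomial.X ^ k * (1 - Polynomial.X) ^ (N - k))

theorem Φ_monomial (N k : ℕ) (a : K) :
    Φ N (Polynomial.monomial k a) =
      Polynomial.C a * (Polynomial.X ^ k * (1 - Polynomial.X) ^ (N - k)) := by
  simp [Φ, Polynomial.sum_monomial_index, Polynomial.smul_eq_C_mul]

theorem Φ_mul {r s : ℕ} {p q : K[X]} (hp : p.natDegree ≤ r) (hq : q.natDegree ≤ s) :
    Φ r p * Φ s q = Φ (r + s) (p * q) := by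
  conv_lhs => rw [p.as_sum_range' (r + 1) (Nat.lt_succ_of_le hp),
    q.as_sum_range' (s + 1) (Nat.lt_succ_of_le hq)]
  conv_rhs => rw [p.as_sum_range' (r + 1) (Nat.lt_succ_of_le hp),
    q.as_sum_range' (s + 1) (Nat.lt_succ_of_le hq)]
  simp only [map_sum, sum_mul_sum, Polynomial.monomial_mul_monomial, Φ_monomial]
  refine sum_congr rfl fun i hi => sum_congr rfl fun j hj => ?_
  rw [mem_range] at hi hj
  rw [show r + s - (i + j) = (r - i) + (s - j) by omega, map_mul, pow_add, pow_add]
  ring

theorem Φ_one_add_X : ∀ N : ℕ, Φ (K := K) N ((1 + Polynomial.X) ^ N) = 1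
  | 0 => by rw [pow_zero, ← Polynomial.C_1, ← Polynomial.monomial_zero_left, Φ_monomial]; simp
  | n + 1 => by
    have h1 : Φ (K := K) 1 (1 + Polynomial.X) = 1 := by
      rw [map_add, ← Polynomial.C_1, ← Polynomial.monomial_zero_left,
        ← Polynomial.monomial_one_one_eq_X, Φ_monomial, Φ_monomial]
      simp
    have hd : ((1 : K[X]) + Polynomial.X).natDegree ≤ 1 := by compute_degree
    rw [pow_succ, ← Φ_mul (Polynomial.natDegree_pow_le_of_le n hd |>.trans (by simp)) hd,
      Φ_one_add_X n, h1, one_mul]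

theorem coeff_one_pow (m : ℕ) : ((1 - Polynomial.X : K[X]) ^ m).coeff 1 = -(m : K) := by
  induction m with
  | zero => simp [Polynomial.coeff_one]
  | succ m ih =>
    have h0 : ((1 - Polynomial.X : K[X]) ^ m).coeff 0 = 1 := by
      simp [Polynomial.coeff_zero_eq_eval_zero]
    rw [pow_succ, mul_sub, mul_one, Polynomial.coeff_sub, ih, Polynomial.coeff_mul_X, h0]
    push_cast
    ring

theorem coeff_one_Φ {r : ℕ} {p : K[X]} (hp : p.natDegree ≤ r) :
    (Φ r p).coeff 1 = p.coeff 1 - (r : K) * p.coeff 0 := by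
  have : p.natDegree < r + 2 := by omega
  conv_lhs => rw [p.as_sum_range' (r + 2) this]
  rw [map_sum, Polynomial.finsetSum_coeff, sum_range_succ' , sum_range_succ']
  rw [sum_eq_zero fun i _ => ?_]
  · simp only [Φ_monomial, Polynomial.coeff_C_mul, Polynomial.coeff_X_pow_mul']
    simp [coeff_one_pow, Polynomial.coeff_zero_eq_eval_zero]
    ring
  · simp [Φ_monomial, Polynomial.coeff_X_pow_mul']

variable [LambdaOps K]

theorem lamSeries_add (x y : K) : lamSeries (x + y) = lamSeries x * lamSeries y := by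
  ext k
  rw [PowerSeries.coeff_mul, Finset.Nat.sum_antidiagonal_eq_sum_range_succ_mk]
  simp [lamSeries, LambdaOps.lam_add]

theorem lamSeries_zero : lamSeries (0 : K) = 1 := by
  have hu : IsUnit (lamSeries (0 : K)) := by
    rw [PowerSeries.isUnit_iff_constantCoeff]
    simp [lamSeries, LambdaOps.lam_zero, ← PowerSeries.coeff_zero_eq_constantCoeff_apply]
  have h := lamSeries_add (0 : K) 0
  rw [add_zero] at h
  exact hu.mul_left_cancel (h.symm.trans (mul_one _).symm)

/-- The lambda series as a polynomial when it is one. -/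
noncomputable def lamPoly (r : ℕ) (x : K) : K[X] :=
  ∑ i ∈ range (r + 1), Polynomial.monomial i (LambdaOps.lam i x)

theorem coe_lamPoly {r : ℕ} {x : K} (h : ∀ i, r < i → LambdaOps.lam i x = 0) :
    (lamPoly r x : PowerSeries K) = lamSeries x := by
  ext k
  simp only [lamPoly, Polynomial.coeff_coe, Polynomial.finsetSum_coeff, Polynomial.coeff_monomial,
    lamSeries, PowerSeries.coeff_mk, sum_ite_eq', mem_range]
  split_ifs with hk
  · rfl
  · exact (h k (by omega)).symm

theorem natDegree_lamPoly (r : ℕ) (x : K) : (lamPoly r x).natDegree ≤ r :=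
  Polynomial.natDegree_sum_le_of_forall_le _ _ fun i hi =>
    (Polynomial.natDegree_monomial_le _).trans (Nat.lt_succ_iff.1 (mem_range.1 hi))

theorem lamSeries_natCast (h : ∀ i, 1 < i → LambdaOps.lam i (1 : K) = 0) :
    ∀ n : ℕ, lamSeries (n : K) = (((1 + Polynomial.X) ^ n : K[X]) : PowerSeries K)
  | 0 => by rw [Nat.cast_zero, lamSeries_zero, pow_zero, Polynomial.coe_one]
  | n + 1 => by
    have h1 : lamPoly 1 (1 : K) = 1 + Polynomial.X := by
      simp [lamPoly, sum_range_succ, LambdaOps.lam_zero, LambdaOps.lam_one,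
        Polynomial.monomial_one_one_eq_X]
    rw [Nat.cast_add, Nat.cast_one, lamSeries_add, lamSeries_natCast h n, pow_succ, Polynomial.coe_mul,
      ← h1, coe_lamPoly h]

/-- A positive element with a complement is its rank up to a nilpotent. -/
theorem isNilpotent_sub (h : ∀ i, 1 < i → LambdaOps.lam i (1 : K) = 0) {r s : ℕ} {e f : K}
    (he : ∀ i, r < i → LambdaOps.lam i e = 0) (hf : ∀ i, s < i → LambdaOps.lam i f = 0)
    (hef : e + f = ((r + s : ℕ) : K)) : IsNilpotent (e - (r : K)) := by
  rcases Nat.eq_zero_or_pos r with rfl | hr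
  · have h0 := he 1 one_pos
    rw [LambdaOps.lam_one] at h0
    simp [h0]
  have hmul : lamPoly r e * lamPoly s f = (1 + Polynomial.X) ^ (r + s) := by
    apply Polynomial.coe_injective
    rw [Polynomial.coe_mul, coe_lamPoly he, coe_lamPoly hf, ← lamSeries_add, hef,
      lamSeries_natCast h]
  have hu : IsUnit (Φ r (lamPoly r e)) := IsUnit.of_mul_eq_one _
    ((Φ_mul (natDegree_lamPoly r e) (natDegree_lamPoly s f)).trans
      ((congrArg _ hmul).trans (Φ_one_add_X _)))
  have hn := (Polynomial.isUnit_iff_coeff_isUnit_isNilpotent.1 hu).2 1 one_ne_zero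
  rw [coeff_one_Φ (natDegree_lamPoly r e)] at hn
  simpa [lamPoly, Polynomial.finsetSum_coeff, Polynomial.coeff_monomial, LambdaOps.lam_zero,
    LambdaOps.lam_one, hr] using hn

omit [LambdaOps K] in
open TensorProduct in
/-- Units of a base change are detected by an augmentation with nil kernel. -/
theorem isUnit_iff_map {A : Type v} [CommRing A] (ε : K →+* ℤ)
    (hε : ∀ x, ε x = 0 → IsNilpotent x) (y : A ⊗[ℤ] K) :
    IsUnit y ↔ IsUnit (Algebra.TensorProduct.map (AlgHom.id ℤ A) ε.toIntAlgHom y) := by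
  refine ⟨fun h => h.map _, fun h => ?_⟩
  let ψ : A ⊗[ℤ] ℤ →+* A ⊗[ℤ] K :=
    Algebra.TensorProduct.includeLeftRingHom.comp
      (Algebra.TensorProduct.rid ℤ ℤ A).toRingEquiv.toRingHom
  suffices hd : ∀ z : A ⊗[ℤ] K,
      IsNilpotent (z - ψ (Algebra.TensorProduct.map (AlgHom.id ℤ A) ε.toIntAlgHom z)) by
    have := (hd y).isUnit_add_left_of_commute (h.map ψ) (Commute.all _ _)
    rwa [add_sub_cancel] at this
  intro z
  induction z using TensorProduct.induction_on with
  | zero => simp
  | tmul a k =>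
    have e : a ⊗ₜ[ℤ] k - ψ (Algebra.TensorProduct.map (AlgHom.id ℤ A) ε.toIntAlgHom (a ⊗ₜ k)) =
        (a ⊗ₜ[ℤ] (1 : K)) * ((1 : A) ⊗ₜ[ℤ] (k - (ε k : K))) := by
      rw [Algebra.TensorProduct.tmul_mul_tmul, mul_one, one_mul, tmul_sub]
      congr 1
      change (Algebra.TensorProduct.rid ℤ ℤ A (a ⊗ₜ[ℤ] ε k)) ⊗ₜ[ℤ] (1 : K) = _
      rw [Algebra.TensorProduct.rid_tmul, smul_tmul, zsmul_one]
    rw [e]
    exact Commute.isNilpotent_mul_left (Commute.all _ _)
      ((hε (k - (ε k : K)) (by simp)).map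
        (Algebra.TensorProduct.includeRight : K →ₐ[ℤ] A ⊗[ℤ] K))
  | add z₁ z₂ h₁ h₂ =>
    rw [map_add, map_add, add_sub_add_comm]
    exact Commute.isNilpotent_add (Commute.all _ _) h₁ h₂

end Groth.Agent.Lib.KAugNil98.Alg
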