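import Groth.Prelude.Def_KRR
import Groth.Agent.Lib.KAugNil98.Alg
import Groth.Agent.Lib.CurveBundle.Coherent
import Groth.Agent.Lib.Kaehler.LocFree
import Groth.Agent.Lib.Modules.FreeStalk
import Groth.Agent.Lib.TensorMod.TensorInv
import Groth.Agent.Lib.TensorMod.Invertible
import Groth.Agent.Lib.Ample.Pullback
import Groth.Agent.Lib.ResDescend36.Ample

/-!
# The augmentation ideal of `K(X)` is nil for `X` with an ample module

A bundle generated by global sections has a complement in a free bundle; the lambda series of the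
two are mutually inverse polynomials after `t = u/(1-u)`, so the class minus the rank is nilpotent.
-/

set_option autoImplicit false

universe u v

open CategoryTheory CategoryTheory.Limits AlgebraicGeometry LambdaRing

namespace Groth.Agent.Lib.KAugNil98.Main

open Groth.Agent.Lib

attribute [local instance] HasDerivedCategory.standard

variable {X : Scheme.{u}}

theorem clSub_shortExact {S : ShortComplex X.Modules} (hS : S.ShortExact)
    (h₁ : FlatMod.IsFinLocFree S.X₁) (h₂ : FlatMod.IsFinLocFree S.X₂)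
    (h₃ : FlatMod.IsFinLocFree S.X₃) : KRR.cl X S.X₂ = KRR.cl X S.X₁ + KRR.cl X S.X₃ := by
  simp only [KRR.cl, KZero.clSub, KRR.vbP, h₁, h₂, h₃, dite_true]
  have : (QuotientAddGroup.mk (FreeAbelianGroup.of (⟨S.X₂, h₂⟩ : Subtype (KRR.vbP X)) -
      FreeAbelianGroup.of (⟨S.X₁, h₁⟩ : Subtype (KRR.vbP X)) -
      FreeAbelianGroup.of (⟨S.X₃, h₃⟩ : Subtype (KRR.vbP X))) : SGA6.Kvb X) = 0 :=
    (QuotientAddGroup.eq_zero_iff _).2 (AddSubgroup.subset_closure ⟨S, h₁, h₂, h₃, hS, rfl⟩)
  rw [QuotientAddGroup.mk_sub, QuotientAddGroup.mk_sub, sub_sub, sub_eq_zero] at this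
  exact this

theorem isFinLocFree_isZero {Z : X.Modules} (hZ : IsZero Z) : FlatMod.IsFinLocFree Z :=
  TensorMod.LocFree.of_iso
    (((IsZero.iff_id_eq_zero _).2 (Limits.Sigma.hom_ext _ _ fun b => Fin.elim0 b) :
      IsZero (FlatMod.freeMod X 0)).iso hZ) ((TensorMod.LocFree.of_rank (TensorMod.LocFree.isFinLocFree_freeMod X 0)))

theorem cl_isZero {Z : X.Modules} (h : IsZero Z) : KRR.cl X Z = 0 := by
  have hS : (ShortComplex.mk (0 : Z ⟶ Z) (0 : Z ⟶ Z) (by simp)).ShortExact :=
    { exact := ShortComplex.exact_of_isZero_X₂ _ h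
      mono_f := ⟨fun _ _ _ => h.eq_of_tgt _ _⟩
      epi_g := ⟨fun _ _ _ => h.eq_of_src _ _⟩ }
  exact left_eq_add.mp (clSub_shortExact hS (isFinLocFree_isZero h) (isFinLocFree_isZero h)
    (isFinLocFree_isZero h))

theorem cl_iso {A B : X.Modules} (e : A ≅ B) (hA : FlatMod.IsFinLocFree A) :
    KRR.cl X A = KRR.cl X B := by
  obtain ⟨Z, hZ⟩ : ∃ Z : X.Modules, IsZero Z := HasZeroObject.zero
  have hS : (ShortComplex.mk (0 : Z ⟶ A) e.hom (by simp)).ShortExact :=
    { exact := (ShortComplex.exact_iff_mono _ rfl).2 inferInstance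
      mono_f := ⟨fun _ _ _ => hZ.eq_of_tgt _ _⟩
      epi_g := inferInstance }
  have := clSub_shortExact hS (isFinLocFree_isZero hZ) hA (TensorMod.LocFree.of_iso e hA)
  simpa [cl_isZero hZ] using this

theorem cl_freeMod (n : ℕ) :
    KRR.cl X (FlatMod.freeMod X n) = n • KRR.cl X (Coh.structureModule X) := by
  induction n with
  | zero =>
    rw [zero_smul]
    exact cl_isZero ((IsZero.iff_id_eq_zero _).2 (Limits.Sigma.hom_ext _ _ fun b => Fin.elim0 b))
  | succ n ih =>
    let A := FlatMod.freeMod X n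
    let B := FlatMod.freeMod X 1
    have hA : FlatMod.IsFinLocFree A := (TensorMod.LocFree.of_rank (TensorMod.LocFree.isFinLocFree_freeMod X n))
    have hB : FlatMod.IsFinLocFree B := (TensorMod.LocFree.of_rank (TensorMod.LocFree.isFinLocFree_freeMod X 1))
    let e : A ⊞ B ≅ FlatMod.freeMod X (n + 1) :=
      biprod.isoCoprod A B ≪≫ TensorMod.LocFree.freeModAddIso X n 1
    have h := clSub_shortExact
      (ShortComplex.Splitting.ofHasBinaryBiproduct A B).shortExact hA
      (TensorMod.LocFree.of_iso e.symm ((TensorMod.LocFree.of_rank (TensorMod.LocFree.isFinLocFree_freeMod X (n + 1))))) hB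
    rw [cl_iso e.symm ((TensorMod.LocFree.of_rank (TensorMod.LocFree.isFinLocFree_freeMod X (n + 1))))]
    refine h.trans ?_
    rw [succ_nsmul, cl_iso (TensorMod.LocFree.freeModOneIso X) hB, ih]

/-- `M` is free of rank `a` near `x`. -/
def RankAt (a : ℕ) (M : X.Modules) (x : X) : Prop :=
  ∃ U : X.Opens, x ∈ U ∧ Nonempty (M.restrict U.ι ≅ FlatMod.freeMod (↑U) a)

/-- The kernel of an epimorphism of finite locally free modules is finite locally free. -/
theorem isFinLocFree_kernel {F G : X.Modules} (p : G ⟶ F) [Epi p] (hG : FlatMod.IsFinLocFree G)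
    (hF : FlatMod.IsFinLocFree F) : FlatMod.IsFinLocFree (kernel p) := fun x => by
  obtain ⟨V₁, n, hx₁, -, ⟨eG⟩⟩ := Modules.Free.exists_free_le hG (W := ⊤) (x := x) trivial
  obtain ⟨V, k, hx, hle, ⟨eF⟩⟩ := Modules.Free.exists_free_le hF hx₁
  let R := Scheme.Modules.restrictFunctor V.ι
  let p' : R.obj G ⟶ R.obj F := R.map p
  obtain ⟨W, hyW, hW⟩ := Modules.Free.exists_lift p' eF.inv ⟨x, hx⟩
  let R' := Scheme.Modules.restrictFunctor W.ι
  obtain ⟨ψ, hψ⟩ := hW W.ι (by simp)
  let s : R'.obj (R.obj F) ⟶ R'.obj (R.obj G) := R'.map eF.hom ≫ ψ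
  have hs : s ≫ R'.map p' = 𝟙 _ := by
    change (R'.map eF.hom ≫ ψ) ≫ R'.map p' = _
    rw [Category.assoc, hψ, ← Functor.map_comp, eF.hom_inv_id, CategoryTheory.Functor.map_id]
  let eG' : R'.obj (R.obj G) ≅ FlatMod.freeMod _ n :=
    R'.mapIso (Modules.Free.freeOfLE hle eG) ≪≫ Modules.Free.restrictFreeIso W.ι n
  let eK : R'.obj (R.obj (kernel p)) ≅ kernel (R'.map p') :=
    R'.mapIso (PreservesKernel.iso R p) ≪≫ PreservesKernel.iso R' (R.map p)
  let r : R'.obj (R.obj G) ⟶ kernel (R'.map p') :=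
    kernel.lift _ (𝟙 _ - R'.map p' ≫ s) (by simp [hs])
  have hr : kernel.ι (R'.map p') ≫ r = 𝟙 _ := by
    rw [← cancel_mono (kernel.ι (R'.map p'))]
    simp [r]
  have hlf : FlatMod.IsFinLocFree (kernel (R'.map p')) :=
    Modules.FreeStalk.isFinLocFree_of_retract (kernel.ι (R'.map p') ≫ eG'.hom) (eG'.inv ≫ r)
      (by rw [Category.assoc, eG'.hom_inv_id_assoc, hr])
  let z : (W : Scheme.{u}) := ⟨⟨x, hx⟩, hyW⟩
  obtain ⟨Z, d, hz, ⟨e⟩⟩ := TensorMod.LocFree.of_iso eK.symm hlf z
  let j := Z.ι ≫ W.ι ≫ V.ι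
  exact ⟨j.opensRange, d, ⟨⟨z, hz⟩, by simp [j, z]⟩, Kaehler.LocFree.free_nhd_of_chart j
    ((Scheme.Modules.restrictFunctorComp Z.ι (W.ι ≫ V.ι)).app (kernel p) ≪≫
      (Scheme.Modules.restrictFunctor Z.ι).mapIso
        ((Scheme.Modules.restrictFunctorComp W.ι V.ι).app (kernel p)) ≪≫ e)⟩

theorem exists_rankAt {M : X.Modules} (h : FlatMod.IsFinLocFree M) (x : X) : ∃ a, RankAt a M x := by
  obtain ⟨U, n, hx, hi⟩ := h x
  exact ⟨n, U, hx, hi⟩

/-- The stalk at `x` of a module free of rank `a` near `x` has a basis of size `a`. -/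
theorem exists_stalkBasis {M : X.Modules} {x : X} {a : ℕ} (h : RankAt a M x) :
    Nonempty (Module.Basis (Fin a) (X.presheaf.stalk x) (M.presheaf.stalk x)) := by
  obtain ⟨U, hx, ⟨i⟩⟩ := h
  obtain ⟨s, hs⟩ := CurveBundle.Coherent.exists_basis_sections i
  exact ⟨Module.Basis.mk (hs x hx).1 (hs x hx).2.ge⟩

theorem rank_add {R M N P : Type u} [CommRing R] [Nontrivial R] [AddCommGroup M] [AddCommGroup N]
    [AddCommGroup P] [Module R M] [Module R N] [Module R P] {a b c : ℕ}
    (bM : Module.Basis (Fin a) R M) (bN : Module.Basis (Fin b) R N) (bP : Module.Basis (Fin c) R P)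
    (f : M →ₗ[R] N) (g : N →ₗ[R] P) (hf : Function.Injective f) (hg : Function.Surjective g)
    (hex : Function.Exact f g) : b = a + c := by
  have := Module.Free.of_basis bP
  obtain ⟨s, hs⟩ := Module.projective_lifting_property g LinearMap.id hg
  have hs' : ∀ z, g (s z) = z := fun z => congr($hs z)
  let e : (M × P) ≃ₗ[R] N := LinearEquiv.ofBijective (f.coprod s)
    ⟨(injective_iff_map_eq_zero _).2 fun p hp => by
      rw [LinearMap.coprod_apply] at hp
      have h2 := congrArg g hp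
      rw [map_add, map_zero, hex.apply_apply_eq_zero, zero_add, hs'] at h2
      rw [h2, map_zero, add_zero] at hp
      exact Prod.ext (hf (hp.trans (map_zero f).symm)) h2,
    fun y => by
      obtain ⟨x, hx⟩ := (hex (y - s (g y))).1 (by rw [map_sub, hs', sub_self])
      exact ⟨(x, g y), by rw [LinearMap.coprod_apply, hx, sub_add_cancel]⟩⟩
  have := Module.finrank_eq_card_basis ((bM.prod bP).map e)
  rw [Module.finrank_eq_card_basis bN] at this
  simpa using this

theorem RankAt.add (S : ShortComplex X.Modules) (hS : S.ShortExact) {a b c : ℕ} {x : X}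
    (h₁ : RankAt a S.X₁ x) (h₂ : RankAt b S.X₂ x) (h₃ : RankAt c S.X₃ x) : b = a + c := by
  obtain ⟨b₁⟩ := exists_stalkBasis h₁
  obtain ⟨b₂⟩ := exists_stalkBasis h₂
  obtain ⟨b₃⟩ := exists_stalkBasis h₃
  have hx := (Modules.Stalk.shortExact_iff_stalk S).1 hS x
  exact rank_add b₁ b₂ b₃ (Modules.StalkModule.stalkMapₗ S.f x) (Modules.StalkModule.stalkMapₗ S.g x)
    hx.ab_injective_f hx.ab_surjective_g (fun y => ⟨fun hy => (ShortComplex.ab_exact_iff _).1 hx.exact y hy,
      fun ⟨z, hz⟩ => by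
        subst hz
        have h := congrArg (fun q => (Modules.Stalk.stalkFunctor X x).map q z) S.zero
        simp only [Functor.map_comp, Functor.map_zero] at h
        exact h⟩)

theorem isZero_of_rank_zero {F : X.Modules} (hF : FlatMod.IsFinLocFreeOfRank 0 F) : IsZero F :=
  Modules.Stalk.isZero_iff_stalk_subsingleton.2 fun x => by
    obtain ⟨b⟩ := exists_stalkBasis (hF x)
    exact b.repr.toEquiv.subsingleton

theorem rankAt_unique {M : X.Modules} {x : X} {a b : ℕ} (h : RankAt a M x) (h' : RankAt b M x) :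
    a = b := by
  obtain ⟨U, hx, ⟨i⟩⟩ := h
  obtain ⟨V, hy, ⟨j⟩⟩ := h'
  obtain ⟨i'⟩ := TensorMod.LocFree.exists_restrict_iso_freeMod (inf_le_left : U ⊓ V ≤ U) i
  obtain ⟨j'⟩ := TensorMod.LocFree.exists_restrict_iso_freeMod (inf_le_right : U ⊓ V ≤ V) j
  exact TensorMod.TensorInv.freeMod_rank_eq (X := ↑(U ⊓ V)) ⟨x, hx, hy⟩ (i'.symm ≪≫ j')

theorem exists_rank [ConnectedSpace X] {M : X.Modules} (h : FlatMod.IsFinLocFree M) :
    ∃ n, FlatMod.IsFinLocFreeOfRank n M := by
  choose a ha using exists_rankAt h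
  have hl : IsLocallyConstant a := (IsLocallyConstant.iff_exists_open a).2 fun x => by
    obtain ⟨U, hx, i⟩ := ha x
    exact ⟨U, U.2, hx, fun y hy => rankAt_unique (ha y) ⟨U, hy, i⟩⟩
  obtain ⟨x₀⟩ : Nonempty X := inferInstance
  exact ⟨a x₀, fun y => (congrArg (fun n => RankAt n M y) (hl.apply_eq_of_preconnectedSpace y x₀)).mp (ha y)⟩

variable {K : Type v} [CommRing K] [LambdaOps K] {P : PosStructure K} {φ : SGA6.Kvb X →+ K}

theorem lam_one_eq_zero (P : PosStructure K) (i : ℕ) (hi : 1 < i) : LambdaOps.lam i (1 : K) = 0 :=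
  P.lam_eq_zero 1 (by simpa using P.natCast_mem 1 one_pos) i (by simpa using hi)

/-- A bundle generated by finitely many sections is its rank up to a nilpotent. -/
theorem isNilpotent_of_epi [ConnectedSpace X] (hK : KRR.IsModel X K P φ) {G : X.Modules} {r N : ℕ}
    (hr : 1 ≤ r) (hG : FlatMod.IsFinLocFreeOfRank r G) (p : FlatMod.freeMod X N ⟶ G) [Epi p] :
    IsNilpotent (φ (KRR.cl X G) - (r : K)) := by
  have hG' := TensorMod.LocFree.of_rank hG
  have hF := (TensorMod.LocFree.of_rank (TensorMod.LocFree.isFinLocFree_freeMod X N))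
  have hker := isFinLocFree_kernel p hF hG'
  obtain ⟨s, hs⟩ := exists_rank hker
  have hS : (ShortComplex.mk (kernel.ι p) p (kernel.condition p)).ShortExact :=
    { exact := ShortComplex.exact_kernel p }
  obtain ⟨x⟩ : Nonempty X := inferInstance
  obtain ⟨U, hx, i⟩ := hG x
  obtain ⟨V, hy, j⟩ := hs x
  have hN : N = s + r := RankAt.add _ hS ⟨V, hy, j⟩
    ⟨⊤, trivial, ⟨TensorMod.LocFree.restrictFreeModIso _ N⟩⟩ ⟨U, hx, i⟩
  have hsum := congrArg φ (clSub_shortExact hS hker hF hG')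
  rw [cl_freeMod, map_nsmul, hK.map_one, nsmul_one, map_add, show ((N : K)) = ((r + s : ℕ) : K) by rw [hN, add_comm s r]] at hsum
  refine Alg.isNilpotent_sub (lam_one_eq_zero P) (s := s)
    (f := φ (KRR.cl X (kernel p))) ?_ ?_ ((add_comm _ _).trans hsum.symm)
  · intro k hk
    refine P.lam_eq_zero _ ((hK.mem_pos_iff _).2 ⟨r, G, hr, hG, rfl⟩) k ?_
    rw [hK.aug_cl r G hG]
    exact_mod_cast hk
  · intro k hk
    rcases Nat.eq_zero_or_pos s with rfl | hs0
    · rw [cl_isZero (isZero_of_rank_zero hs), map_zero]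
      have := congrArg (PowerSeries.coeff k) (Alg.lamSeries_zero (K := K))
      simpa [LambdaRing.lamSeries, PowerSeries.coeff_one, (show k ≠ 0 by omega)] using this
    · refine P.lam_eq_zero _ ((hK.mem_pos_iff _).2 ⟨s, kernel p, hs0, hs, rfl⟩) k ?_
      rw [hK.aug_cl s _ hs]
      exact_mod_cast hk

/-- The augmentation ideal is nil. -/
theorem isNilpotent_of_aug_eq_zero [ConnectedSpace X] {L : X.Modules} (hL : CohB1.IsAmple L)
    (hK : KRR.IsModel X K P φ) (x : K) (hx : P.aug x = 0) : IsNilpotent x := by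
  have := hL.2.1
  have := Ample.Pullback.quasiSeparatedSpace_of_isAmple hL
  suffices key : ∀ e ∈ P.pos, IsNilpotent (e - (P.aug e : K)) by
    obtain ⟨e, f, he, hf, rfl⟩ := P.exists_sub x
    rw [map_sub, sub_eq_zero] at hx
    have h := Commute.isNilpotent_sub (Commute.all _ _) (key e he) (key f hf)
    rwa [hx, sub_sub_sub_cancel_right] at h
  intro e he
  obtain ⟨r, E, hr, hE, rfl⟩ := (hK.mem_pos_iff e).1 he
  rw [hK.aug_cl r E hE, Int.cast_natCast]
  have hO : FlatMod.IsFinLocFreeOfRank 1 (Coh.structureModule X) :=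
    TensorMod.LocFree.of_isInvertible (PicLoc.isInvertible_structureModule X)
  obtain ⟨a, ha⟩ := Ample.GG.eventually_genAt_twist hL E
    (CurveBundle.Coherent.isCoh (TensorMod.LocFree.of_rank hE))
  obtain ⟨b, hb⟩ := Ample.GG.eventually_genAt_twist hL _
    (CurveBundle.Coherent.isCoh (TensorMod.LocFree.of_rank hO))
  let T := CohB1.tensorPow L (max a b)
  have hT : FlatMod.IsFinLocFreeOfRank 1 T :=
    TensorMod.LocFree.of_isInvertible (TensorMod.Invertible.isInvertible_tensorPow hL.1 _)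
  have main : ∀ (G : X.Modules) (m : ℕ), 1 ≤ m → FlatMod.IsFinLocFreeOfRank m G →
      (∀ y, Ample.GG.GenAt (CohB1.tensorMod G T) y) →
      IsNilpotent (φ (KRR.cl X G) * φ (KRR.cl X T) - (m : K)) := by
    intro G m hm hG hgen
    have hGT := TensorMod.LocFree.rank_tensorMod hG hT
    obtain ⟨N, p, hp⟩ := ResDescend36.Ample.exists_epi_freeMod _
      (CurveBundle.Coherent.isCoh (TensorMod.LocFree.of_rank hGT)) hgen
    rw [hK.map_mul G T (TensorMod.LocFree.of_rank hG) (TensorMod.LocFree.of_rank hT)]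
    rw [mul_one] at hGT
    exact @isNilpotent_of_epi X K _ _ P φ _ hK _ m N hm hGT p hp
  have hE' := main E r hr hE (ha _ (le_max_left a b))
  have hw := main _ 1 le_rfl hO (hb _ (le_max_right a b))
  rw [hK.map_one, one_mul, Nat.cast_one] at hw
  obtain ⟨w, hwu⟩ : IsUnit (φ (KRR.cl X T)) := by simpa using hw.isUnit_one_add
  have hz : φ (KRR.cl X E) - (r : K) = ↑w⁻¹ *
      ((φ (KRR.cl X E) * φ (KRR.cl X T) - (r : K)) - (r : K) * (φ (KRR.cl X T) - 1)) := by
    rw [eq_comm, Units.inv_mul_eq_iff_eq_mul, hwu]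
    ring
  rw [hz]
  exact Commute.isNilpotent_mul_left (Commute.all _ _) |> fun h =>
    h (Commute.isNilpotent_sub (Commute.all _ _) hE' (Commute.isNilpotent_mul_left (Commute.all _ _) hw))

end Groth.Agent.Lib.KAugNil98.Main
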